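import Groth.Agent.CohenLib.DerExt
import Groth.Agent.S2036
import Groth.Agent.S2471
import Groth.Agent.PerfectFieldLib.FormallySmooth
import Groth.Agent.CMFlatLib.RegFlat
import Groth.Agent.FixLocusLib.Basic
import Groth.Agent.CommAlgDim.Regular
import Mathlib

/-!
# Geometrically regular local algebras over lifts of a differential basis

If `A` is a Noetherian local `k`-algebra, geometrically regular over `k` of characteristic `p`, and the
`y_i : A` have residues whose differentials are independent in a subfield of the residue field, then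
`k[y] → A` is flat and the fibre at the closed point is regular.
-/

set_option autoImplicit false
set_option linter.unusedSectionVars false
set_option linter.style.haveILetI false

universe u

open IsLocalRing MvPolynomial

namespace GeomRegFlatLib

/-- Chain rule for differentials. -/
theorem D_aeval {k F : Type u} [Field k] [Field F] [Algebra k F] {m : ℕ} (Y : Fin m → F) (g : MvPolynomial (Fin m) k) :
    KaehlerDifferential.D k F (aeval Y g) = ∑ l, aeval Y (pderiv l g) • KaehlerDifferential.D k F (Y l) := by
  induction g using MvPolynomial.induction_on with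
  | C a => simp
  | add p q hp hq => simp only [map_add, hp, hq, add_smul, Finset.sum_add_distrib]
  | mul_X p i hp =>
    rw [map_mul, Derivation.leibniz, aeval_X, hp, Finset.smul_sum]
    simp only [pderiv_mul, pderiv_X, map_add, map_mul, aeval_X, add_smul, Finset.sum_add_distrib, Pi.single_apply]
    rw [add_comm]
    refine congr_arg₂ (· + ·) (Finset.sum_congr rfl fun l _ => by rw [smul_smul, mul_comm]) ?_
    simp [apply_ite (aeval Y), mul_ite, ite_smul]

section section'

variable (p : ℕ) [Fact p.Prime] {R : Type u} [CommRing R] [IsLocalRing R] [CharP R p]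

include p in
/-- A derivation of a local ring into its cotangent space extending the class map. -/
theorem exists_nu :
    ∃ ν : R → CotangentSpace R, (∀ a b, ν (a + b) = ν a + ν b) ∧
      (∀ a b, ν (a * b) = a • ν b + b • ν a) ∧
      ∀ (g : R) (hg : g ∈ maximalIdeal R), ν g = (maximalIdeal R).toCotangent ⟨g, hg⟩ := by
  letI : Algebra (ZMod p) R := ZMod.algebra R p
  let L := ResidueField R
  let M2 := maximalIdeal R ^ 2
  let g0 : R ⧸ M2 →+* L := Ideal.Quotient.lift M2 (residue R) fun x hx =>
    (residue_eq_zero_iff x).2 (Ideal.pow_le_self two_ne_zero hx)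
  let g : R ⧸ M2 →ₐ[ZMod p] L :=
    { g0 with commutes' := RingHom.congr_fun (Subsingleton.elim (g0.comp (algebraMap (ZMod p) (R ⧸ M2))) (algebraMap (ZMod p) L)) }
  haveI : Algebra.FormallySmooth (ZMod p) L := Groth.Agent.PerfectFieldLib.formallySmooth_of_perfectField (ZMod p) L
  have hgsur : Function.Surjective g := fun y => by
    obtain ⟨r, rfl⟩ := residue_surjective (R := R) y
    exact ⟨Ideal.Quotient.mk M2 r, rfl⟩
  have hnil : IsNilpotent (RingHom.ker g.toRingHom) := by
    refine ⟨2, ?_⟩
    have hle : RingHom.ker g.toRingHom ≤ (maximalIdeal R).map (Ideal.Quotient.mk M2) := fun y hy => by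
      obtain ⟨r, rfl⟩ := Ideal.Quotient.mk_surjective y
      exact Ideal.mem_map_of_mem _ ((residue_eq_zero_iff r).1 hy)
    refine le_bot_iff.1 ((Ideal.pow_right_mono hle 2).trans ?_)
    rw [← Ideal.map_pow, Ideal.map_quotient_self]
  let σ : L →ₐ[ZMod p] R ⧸ M2 := Algebra.FormallySmooth.liftOfSurjective (AlgHom.id (ZMod p) L) g hgsur hnil
  have hσ : ∀ x, g (σ x) = x := fun x =>
    Algebra.FormallySmooth.liftOfSurjective_apply (AlgHom.id (ZMod p) L) g hgsur hnil x
  let t : R → R := fun r => Function.surjInv (Ideal.Quotient.mk_surjective (I := M2)) (σ (residue R r))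
  have ht : ∀ r, Ideal.Quotient.mk M2 (t r) = σ (residue R r) := fun r => Function.surjInv_eq _ _
  have htm : ∀ r, r - t r ∈ maximalIdeal R := fun r => by
    rw [← residue_eq_zero_iff, map_sub, sub_eq_zero, ← hσ (residue R r), ← ht r]
    rfl
  have key : ∀ {x y : R} (hx : x ∈ maximalIdeal R) (hy : y ∈ maximalIdeal R),
      Ideal.Quotient.mk M2 x = Ideal.Quotient.mk M2 y →
      (maximalIdeal R).toCotangent ⟨x, hx⟩ = (maximalIdeal R).toCotangent ⟨y, hy⟩ := fun {x y} hx hy h =>
    ((maximalIdeal R).toCotangent_eq).2 (Ideal.Quotient.eq.1 h)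
  refine ⟨fun r => (maximalIdeal R).toCotangent ⟨r - t r, htm r⟩, fun a b => ?_, fun a b => ?_, fun x hx => ?_⟩
  · rw [← map_add]
    refine key _ (add_mem (htm a) (htm b)) ?_
    simp only [map_sub, map_add, ht]
    ring
  · rw [← map_smul, ← map_smul, ← map_add]
    refine key _ (add_mem (Ideal.mul_mem_left _ a (htm b)) (Ideal.mul_mem_left _ b (htm a))) ?_
    simp only [map_sub, map_add, map_mul, ht]
    have h1 : (Ideal.Quotient.mk M2 a - σ (residue R a)) * (Ideal.Quotient.mk M2 b - σ (residue R b)) = 0 := by
      rw [← ht, ← ht, ← map_sub, ← map_sub, ← map_mul, Ideal.Quotient.eq_zero_iff_mem]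
      show _ ∈ maximalIdeal R ^ 2
      rw [pow_two]
      exact Ideal.mul_mem_mul (htm a) (htm b)
    linear_combination -h1
  · refine key _ hx ?_
    rw [map_sub, ht, (residue_eq_zero_iff x).2 hx, map_zero, sub_zero]

end section'

section main

variable (p : ℕ) [Fact p.Prime] {k : Type u} [Field k] [CharP k p] {A : Type u} [CommRing A] [IsLocalRing A]
  [IsNoetherianRing A] [Algebra k A]

/-- Regular parameters: independent classes give a weakly regular sequence. -/
theorem isWeaklyRegular_of_li {B : Type u} [CommRing B] [IsRegularLocalRing B] {c : ℕ} (f : Fin c → maximalIdeal B)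
    (hli : LinearIndependent (ResidueField B) fun i => (maximalIdeal B).toCotangent (f i)) :
    RingTheory.Sequence.IsWeaklyRegular B (List.ofFn fun i => (f i : B)) := by
  classical
  rw [RingTheory.Sequence.isWeaklyRegular_iff_Fin]
  intro i
  have hic : (i : ℕ) < c := by simpa using i.2
  set i' : Fin c := ⟨i, hic⟩
  let f' : Fin (i : ℕ) → maximalIdeal B := fun j => f ⟨j, j.2.trans hic⟩
  have hli' : LinearIndependent (ResidueField B) fun j => (maximalIdeal B).toCotangent (f' j) :=
    hli.comp (fun j : Fin (i : ℕ) => (⟨j, j.2.trans hic⟩ : Fin c)) fun a b h => Fin.ext (by simpa using h)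
  set J := Ideal.span (Set.range fun j => (f' j : B)) with hJ
  haveI := FixLocusLib.isRegularLocalRing_quotient_of_li f' hli'
  haveI := CommAlgDim.isDomain_of_isRegularLocalRing (B ⧸ J)
  have hnot : (f i' : B) ∉ J := by
    intro h
    obtain ⟨a, ha⟩ := Ideal.mem_span_range_iff_exists_fun.1 h
    have h1 : (maximalIdeal B).toCotangent (f i') = ∑ j, residue B (a j) • (maximalIdeal B).toCotangent (f' j) := by
      rw [show f i' = ∑ j, a j • f' j from Subtype.ext (by simp [ha]), map_sum]
      exact Finset.sum_congr rfl fun j _ => by rw [map_smul]; rfl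
    have h2 := Fintype.linearIndependent_iff.1 hli
      (fun l => if h : (l : ℕ) < i then residue B (a ⟨l, h⟩) else if l = i' then -1 else 0)
    refine one_ne_zero (α := ResidueField B) (neg_eq_zero.1 ?_)
    have h3 := h2 ?_ i'
    · simpa [i'] using h3
    · rw [← Finset.sum_filter_add_sum_filter_not Finset.univ (fun l : Fin c => (l : ℕ) < i)]
      have hA : ∑ l ∈ Finset.univ.filter (fun l : Fin c => (l : ℕ) < i),
          (if h : (l : ℕ) < i then residue B (a ⟨l, h⟩) else if l = i' then -1 else 0) •
            (maximalIdeal B).toCotangent (f l) = (maximalIdeal B).toCotangent (f i') := by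
        rw [h1]
        refine (Finset.sum_bij' (fun (j : Fin (i : ℕ)) _ => (⟨j, j.2.trans hic⟩ : Fin c))
          (fun l hl => ⟨l, (Finset.mem_filter.1 hl).2⟩) ?_ ?_ ?_ ?_ ?_).symm
        · intro j _; simp
        · intro l _; simp
        · intro j _; rfl
        · intro l _; rfl
        · intro j _; simp [f']
      rw [hA, Finset.sum_eq_single i']
      · simp [i']
      · intro l hl hne
        simp [(Finset.mem_filter.1 hl).2, hne]
      · intro h
        exact absurd (Finset.mem_filter.2 ⟨Finset.mem_univ i', lt_irrefl (i : ℕ)⟩) h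
  have htop : (Ideal.ofList ((List.ofFn fun i => (f i : B)).take i) • ⊤ : Submodule B B) = J := by
    rw [smul_eq_mul, Ideal.mul_top, Ideal.ofList, hJ]
    congr 1
    ext x
    simp only [List.mem_take_iff_getElem, List.getElem_ofFn, List.length_ofFn, Set.mem_ofPred_eq, Set.mem_range]
    constructor
    · rintro ⟨j, hj, rfl⟩
      exact ⟨⟨j, (lt_min_iff.1 hj).1⟩, rfl⟩
    · rintro ⟨j, rfl⟩
      exact ⟨j, lt_min j.2 (j.2.trans hic), rfl⟩
  rw [htop]
  simp only [Fin.getElem_fin, List.getElem_ofFn]
  intro x y hxy
  obtain ⟨x, rfl⟩ := Ideal.Quotient.mk_surjective x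
  obtain ⟨y, rfl⟩ := Ideal.Quotient.mk_surjective y
  have hne : Ideal.Quotient.mk J (f i' : B) ≠ 0 := fun h => hnot (Ideal.Quotient.eq_zero_iff_mem.1 h)
  refine mul_left_cancel₀ hne ?_
  rw [← map_mul, ← map_mul]
  exact hxy

include p in
theorem core (hreg : IsRegularLocalRing A)
    (hinj : ∀ D : Derivation ℤ k (ResidueField A), ∃ D' : Derivation ℤ A (ResidueField A), ∀ c, D' (algebraMap k A c) = D c)
    (F : IntermediateField k (ResidueField A)) (m : ℕ)
    (φ : MvPolynomial (Fin m) k →ₐ[k] A) (hφ : ∀ i : Fin m, residue A (φ (X i)) ∈ F)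
    (hb : LinearIndependent F fun i : Fin m => KaehlerDifferential.D k F ⟨residue A (φ (X i)), hφ i⟩)
    {R : Type u} [CommRing R] [IsRegularLocalRing R] [CharP R p]
    (loc : MvPolynomial (Fin m) k →+* R) (ι : R →+* A) [IsLocalHom ι] (hι : ∀ x, ι (loc x) = φ x)
    (hmR : Ideal.map loc (Ideal.comap φ.toRingHom (maximalIdeal A)) = maximalIdeal R) :
    (letI := ι.toAlgebra; Module.Flat R A) ∧
      IsRegularLocalRing (A ⧸ Ideal.map φ.toRingHom (Ideal.comap φ.toRingHom (maximalIdeal A))) := by
  classical
  haveI := hreg
  let K := ResidueField A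
  let q : Ideal (MvPolynomial (Fin m) k) := Ideal.comap φ.toRingHom (maximalIdeal A)
  obtain ⟨ν, hνadd, hνmul, hνcls⟩ := exists_nu p (R := R)
  -- parameters coming from the polynomial ring
  let S : Set (maximalIdeal R) := {z | ∃ h ∈ q, (z : R) = loc h}
  have hS : Submodule.span (ResidueField R) ((maximalIdeal R).toCotangent '' S) = ⊤ := by
    rw [CotangentSpace.span_image_eq_top_iff]
    refine Submodule.map_injective_of_injective (maximalIdeal R).subtype_injective ?_
    rw [Submodule.map_span, Submodule.map_top, Submodule.range_subtype]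
    refine le_antisymm (Submodule.span_le.2 ?_) ?_
    · rintro _ ⟨z, -, rfl⟩; exact z.2
    · conv_lhs => rw [← hmR]
      rw [Ideal.map, Ideal.span_le]
      rintro _ ⟨h, hh, rfl⟩
      exact Ideal.subset_span ⟨⟨loc h, hmR.le (Ideal.mem_map_of_mem _ hh)⟩, ⟨h, hh, rfl⟩, rfl⟩
  obtain ⟨e, he, hspan, hli⟩ := Submodule.exists_fun_fin_finrank_span_eq (ResidueField R) ((maximalIdeal R).toCotangent '' S)
  choose z hzS hze using he
  choose h hhq hzh using hzS
  let bR : Module.Basis _ (ResidueField R) (CotangentSpace R) := Module.Basis.mk hli (by rw [hspan, hS])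
  let jK : ResidueField R →+* K := IsLocalRing.ResidueField.map ι
  have hjres : ∀ r, jK (residue R r) = residue A (ι r) := fun r => IsLocalRing.ResidueField.map_residue ι r
  let coef : Fin _ → R → K := fun i r => jK (bR.repr (ν r) i)
  have hcadd : ∀ i a b, coef i (a + b) = coef i a + coef i b := fun i a b => by
    simp [coef, hνadd]
  have hcmul : ∀ i a b, coef i (a * b) = residue A (ι a) * coef i b + residue A (ι b) * coef i a := fun i a b => by
    simp only [coef, hνmul, ← algebraMap_smul (ResidueField R) a, ← algebraMap_smul (ResidueField R) b, map_add,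
      map_smul, Finsupp.add_apply, Finsupp.smul_apply, smul_eq_mul, map_mul]
    rw [← hjres, ← hjres]
    rfl
  have hck : ∀ x : k, residue A (ι (loc (C x))) = algebraMap k K x := fun x => by
    rw [hι, show φ (C x) = algebraMap k A x from φ.commutes x]; rfl
  let δ : Fin _ → Derivation ℤ k K := fun i =>
    Derivation.mk' (AddMonoidHom.toIntLinearMap
      { toFun := fun x => coef i (loc (C x))
        map_zero' := by
          have := hcadd i 0 0
          rw [add_zero, left_eq_add] at this
          rw [C_0, map_zero, this]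
        map_add' := fun x y => by rw [C_add, map_add, hcadd] })
      fun x y => by
        show coef i (loc (C (x * y))) = x • coef i (loc (C y)) + y • coef i (loc (C x))
        rw [C_mul, map_mul, hcmul, hck, hck, Algebra.smul_def, Algebra.smul_def]
  choose E hE using fun i => hinj (δ i)
  -- the difference is linear over the constants
  let ε : Fin _ → MvPolynomial (Fin m) k → K := fun i g => E i (φ g) - coef i (loc g)
  have hsmul : ∀ (a : A) (x : K), a • x = residue A a * x := fun a x => by rw [Algebra.smul_def]; rfl
  have hε : ∀ i g, ε i g = ∑ l, residue A (φ (pderiv l g)) * ε i (X l) := fun i g => by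
    induction g using MvPolynomial.induction_on with
    | C a =>
      simp only [ε, show φ (C a) = algebraMap k A a from φ.commutes a, hE, pderiv_C, map_zero, zero_mul,
        Finset.sum_const_zero]
      exact sub_self _
    | add g g' hg hg' =>
      simp only [ε, map_add, hcadd, add_mul, Finset.sum_add_distrib] at hg hg' ⊢
      linear_combination hg + hg'
    | mul_X g l hg =>
      have h1 : ε i (g * X l) = residue A (φ g) * ε i (X l) + residue A (φ (X l)) * ε i g := by
        simp only [ε, map_mul, Derivation.leibniz, hsmul, hcmul, hι]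
        ring
      rw [h1, hg, Finset.mul_sum]
      simp only [pderiv_mul, map_add, map_mul, add_mul, Finset.sum_add_distrib]
      rw [Finset.sum_eq_single (f := fun x => residue A (φ g) * residue A (φ (pderiv x (X l))) * ε i (X x)) l
        (fun b _ hb => by rw [pderiv_X_of_ne (Ne.symm hb), map_zero, map_zero, mul_zero, zero_mul]) (fun h => absurd (Finset.mem_univ l) h),
        pderiv_X_self, map_one, map_one, mul_one, add_comm]
      refine congr_arg₂ (· + ·) (Finset.sum_congr rfl fun x _ => by ring) rfl
  let Y : Fin m → F := fun l => ⟨residue A (φ (X l)), hφ l⟩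
  have haev : ∀ g, (aeval Y g : K) = residue A (φ g) := fun g => by
    have : F.val.comp (aeval Y) = (IsScalarTower.toAlgHom k A K).comp φ := MvPolynomial.algHom_ext fun l => by
      simp only [AlgHom.comp_apply, aeval_X, IsScalarTower.coe_toAlgHom', Y]
      rfl
    exact DFunLike.congr_fun this g
  have hder : ∀ g ∈ q, ∀ l, residue A (φ (pderiv l g)) = 0 := fun g hg l => by
    have h0 : aeval Y g = 0 := Subtype.ext (by
      rw [haev]; exact (residue_eq_zero_iff _).2 hg)
    have h1 := D_aeval Y g
    rw [h0, map_zero] at h1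
    rw [← haev, Fintype.linearIndependent_iff.1 hb _ h1.symm l]
    rfl
  have hEh : ∀ i j, E i (φ (h j)) = if j = i then 1 else 0 := fun i j => by
    have h1 : ε i (h j) = 0 := by
      rw [hε]
      exact Finset.sum_eq_zero fun l _ => by rw [hder _ (hhq j) l, zero_mul]
    rw [sub_eq_zero.1 h1]
    show jK (bR.repr (ν (loc (h j))) i) = _
    have hzm : loc (h j) ∈ maximalIdeal R := hzh j ▸ (z j).2
    rw [hνcls _ hzm, show (⟨loc (h j), hzm⟩ : maximalIdeal R) = z j from Subtype.ext (hzh j).symm, hze,
      show e j = bR j from (Module.Basis.mk_apply _ _ _).symm, bR.repr_self, Finsupp.single_apply, apply_ite jK,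
      map_one, map_zero]
  -- the images are independent parameters of `A`
  let w : Fin _ → maximalIdeal A := fun j => ⟨φ (h j), hhq j⟩
  have hwli : LinearIndependent (ResidueField A) fun j => (maximalIdeal A).toCotangent (w j) := by
    refine Fintype.linearIndependent_iff.2 fun c hc i => ?_
    choose a ha using fun j => residue_surjective (R := A) (c j)
    have hmem : ∑ j, a j * φ (h j) ∈ maximalIdeal A ^ 2 := by
      have h0 : (maximalIdeal A).toCotangent (∑ j, a j • w j) = 0 := by
        rw [map_sum, ← hc]
        refine Finset.sum_congr rfl fun j _ => ?_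
        rw [map_smul, ← ha]
        rfl
      rw [Ideal.toCotangent_eq_zero] at h0
      simpa [w] using h0
    have hkill : ∀ x ∈ maximalIdeal A ^ 2, E i x = 0 := fun x hx => by
      rw [pow_two] at hx
      refine Submodule.mul_induction_on hx (fun a ha b hb => ?_) fun a b ha hb => by rw [map_add, ha, hb, add_zero]
      rw [Derivation.leibniz, hsmul, hsmul, (residue_eq_zero_iff a).2 ha, (residue_eq_zero_iff b).2 hb, zero_mul,
        zero_mul, add_zero]
    have h1 := hkill _ hmem
    rw [map_sum] at h1
    simp only [Derivation.leibniz, hsmul, hEh, show ∀ j, residue A (φ (h j)) = 0 from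
      fun j => (residue_eq_zero_iff _).2 (hhq j), ha, zero_mul, add_zero, mul_ite, mul_one, mul_zero,
      Finset.sum_ite_eq', Finset.mem_univ, if_true] at h1
    exact h1
  -- the parameters generate
  have hgen : Ideal.span (Set.range fun j => loc (h j)) = maximalIdeal R := by
    have h1 : Submodule.span (ResidueField R) ((maximalIdeal R).toCotangent '' Set.range z) = ⊤ := by
      rw [← Set.range_comp, show (maximalIdeal R).toCotangent ∘ z = e from funext hze, hspan, hS]
    rw [CotangentSpace.span_image_eq_top_iff] at h1
    have h2 := congrArg (Submodule.map (maximalIdeal R).subtype) h1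
    rw [Submodule.map_span, Submodule.map_top, Submodule.range_subtype, ← Set.range_comp,
      show (maximalIdeal R).subtype ∘ z = fun j => loc (h j) from funext hzh] at h2
    exact h2
  have hmapq : Ideal.map φ.toRingHom q = Ideal.span (Set.range fun j => φ (h j)) := by
    rw [show φ.toRingHom = ι.comp loc from RingHom.ext fun x => (hι x).symm, ← Ideal.map_map, hmR]
    refine (congrArg (Ideal.map ι) hgen.symm).trans ?_
    rw [Ideal.map_span, ← Set.range_comp]
    simp only [Function.comp_def, hι]
  refine ⟨?_, ?_⟩
  · letI : Algebra R A := ι.toAlgebra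
    haveI : IsLocalHom (algebraMap R A) := ‹IsLocalHom ι›
    have hzreg : RingTheory.Sequence.IsWeaklyRegular R (List.ofFn fun j => (z j : R)) :=
      isWeaklyRegular_of_li z (by rw [show (fun i => (maximalIdeal R).toCotangent (z i)) = e from funext hze]; exact hli)
    have hwreg := isWeaklyRegular_of_li w hwli
    exact CMFlatLib.flat_of_regular_seq _ R A (List.ofFn fun j => (z j : R)) List.length_ofFn hzreg
      (by
        rw [List.map_ofFn, show algebraMap R A ∘ (fun j => (z j : R)) = fun j => (w j : A) from
          funext fun j => (congrArg ι (hzh j)).trans (hι _)]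
        exact hwreg)
      (by
        refine Eq.trans ?_ hgen
        rw [Ideal.ofList]
        congr 1
        ext x
        simp [hzh, eq_comm])
  · rw [hmapq]
    exact FixLocusLib.isRegularLocalRing_quotient_of_li w hwli


include p in
theorem main (hA : CAlg.IsGeometricallyRegular k A) (F : IntermediateField k (ResidueField A)) (m : ℕ)
    (φ : MvPolynomial (Fin m) k →ₐ[k] A) (hφ : ∀ i : Fin m, residue A (φ (X i)) ∈ F)
    (hb : LinearIndependent F fun i : Fin m => KaehlerDifferential.D k F ⟨residue A (φ (X i)), hφ i⟩) :
    (letI := φ.toRingHom.toAlgebra; Module.Flat (MvPolynomial (Fin m) k) A) ∧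
      IsRegularLocalRing (A ⧸ Ideal.map φ.toRingHom (Ideal.comap φ.toRingHom (maximalIdeal A))) := by
  obtain ⟨hreg, hinj⟩ := (Groth.Agent.S2471.result (k := k) (A := A)).1 ((Groth.Agent.S2036.result p).1 hA)
  rw [CohenLib.injective_lTensor_iff ℤ k A (ResidueField A)] at hinj
  let q : Ideal (MvPolynomial (Fin m) k) := Ideal.comap φ.toRingHom (maximalIdeal A)
  haveI : IsRegularRing k := CommAlgDim.isRegularRing_of_isRegularLocalRing k
  haveI : IsRegularRing (MvPolynomial (Fin m) k) := inferInstance
  have hunit : ∀ y : q.primeCompl, IsUnit (φ.toRingHom y) := fun y =>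
    IsLocalRing.notMem_maximalIdeal.1 y.2
  let ι : Localization.AtPrime q →+* A := IsLocalization.lift hunit
  have hι : ∀ x, ι (algebraMap _ (Localization.AtPrime q) x) = φ x := fun x => IsLocalization.lift_eq hunit x
  haveI hloc : IsLocalHom ι := ⟨fun z hz => by
    obtain ⟨x, s, rfl⟩ := IsLocalization.exists_mk'_eq q.primeCompl z
    rw [IsLocalization.AtPrime.isUnit_mk'_iff]
    intro hx
    have h1 : ι (IsLocalization.mk' (Localization.AtPrime q) x s) * φ s = φ x := by
      rw [← hι, ← map_mul, IsLocalization.mk'_spec, hι]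
    have h2 : IsUnit (φ x) := h1 ▸ hz.mul (hunit s)
    exact (mem_maximalIdeal _).1 (show φ x ∈ maximalIdeal A from hx) h2⟩
  haveI : CharP (Localization.AtPrime q) p := charP_of_injective_ringHom
    (f := (algebraMap _ (Localization.AtPrime q)).comp (C : k →+* MvPolynomial (Fin m) k)) (RingHom.injective _) p
  obtain ⟨hflat, hq⟩ := core p hreg hinj F m φ hφ hb (algebraMap _ (Localization.AtPrime q)) ι hι
    Localization.AtPrime.map_eq_maximalIdeal
  refine ⟨?_, hq⟩
  letI := φ.toRingHom.toAlgebra
  letI : Algebra (Localization.AtPrime q) A := ι.toAlgebra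
  haveI : IsScalarTower (MvPolynomial (Fin m) k) (Localization.AtPrime q) A :=
    IsScalarTower.of_algebraMap_eq fun x => (hι x).symm
  haveI : Module.Flat (Localization.AtPrime q) A := hflat
  exact Module.Flat.trans (MvPolynomial (Fin m) k) (Localization.AtPrime q) A

end main

end GeomRegFlatLib
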